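import Mathlib

/-! Ring-level lemmas for the Artin–Schreier sequence: in a ring with `p = 0`,
`a ^ p - a = ∏_{k ∈ 𝔽_p} (a - k)`. -/

universe u
open Polynomial

namespace Groth.Agent.H8.ASch

theorem poly_id (p : ℕ) [Fact p.Prime] :
    (X ^ p - X : (ZMod p)[X]) = ∏ k : ZMod p, (X - C k) := by
  have hp1 : 1 < p := (Fact.out : p.Prime).one_lt
  have hs : (X ^ p - X : (ZMod p)[X]).Splits := GaloisField.splits_zmod_X_pow_sub_X p
  have hm : (X ^ p - X : (ZMod p)[X]).Monic :=
    monic_X_pow_sub (by rw [degree_X]; exact_mod_cast hp1)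
  have hr : (X ^ p - X : (ZMod p)[X]).roots = Finset.univ.val := by
    have h := FiniteField.roots_X_pow_card_sub_X (ZMod p)
    rwa [ZMod.card] at h
  calc (X ^ p - X : (ZMod p)[X])
      = ((X ^ p - X : (ZMod p)[X]).roots.map (X - C ·)).prod := hs.eq_prod_roots_of_monic hm
    _ = ((Finset.univ : Finset (ZMod p)).val.map (X - C ·)).prod := by rw [hr]
    _ = ∏ k : ZMod p, (X - C k) := rfl

variable {p : ℕ} [Fact p.Prime] {A : Type*} [CommRing A]

theorem subsingleton_or_charP (hp : (p : A) = 0) : Subsingleton A ∨ CharP A p := by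
  rcases subsingleton_or_nontrivial A with h | h
  · exact Or.inl h
  · exact Or.inr ((CharP.charP_iff_prime_eq_zero (Fact.out : p.Prime)).mpr hp)

theorem prod_sub (hp : (p : A) = 0) (a : A) :
    ∏ k : ZMod p, (a - ((k.val : ℕ) : A)) = a ^ p - a := by
  rcases subsingleton_or_charP hp with h | h
  · exact Subsingleton.elim _ _
  · have h1 := congrArg (Polynomial.eval₂ (ZMod.castHom (dvd_refl p) A) a) (poly_id p)
    rw [eval₂_sub, eval₂_pow, eval₂_X, eval₂_finset_prod] at h1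
    rw [h1]
    refine Finset.prod_congr rfl fun k _ => ?_
    rw [eval₂_sub, eval₂_X, eval₂_C, ZMod.castHom_apply, ZMod.natCast_val]

theorem isUnit_sub (hp : (p : A) = 0) {k k' : ZMod p} (h : k ≠ k') :
    IsUnit (((k.val : ℕ) : A) - ((k'.val : ℕ) : A)) := by
  rcases subsingleton_or_charP hp with hs | hc
  · exact isUnit_of_subsingleton _
  · have h0 : k - k' ≠ 0 := sub_ne_zero.mpr h
    have h1 : IsUnit (k - k') := IsUnit.mk0 _ h0
    have h2 := h1.map (ZMod.castHom (dvd_refl p) A)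
    rw [map_sub, ZMod.castHom_apply, ZMod.castHom_apply] at h2
    rw [ZMod.natCast_val, ZMod.natCast_val]
    exact h2

theorem natCast_pow_p (hp : (p : A) = 0) (k : ZMod p) :
    (((k.val : ℕ) : A)) ^ p = ((k.val : ℕ) : A) := by
  have h := prod_sub hp ((k.val : ℕ) : A)
  have h0 : ∏ k' : ZMod p, (((k.val : ℕ) : A) - ((k'.val : ℕ) : A)) = 0 :=
    Finset.prod_eq_zero (Finset.mem_univ k) (sub_self _)
  rw [h0] at h
  exact (sub_eq_zero.mp h.symm)

theorem add_pow_p (hp : (p : A) = 0) (a b : A) : (a + b) ^ p = a ^ p + b ^ p := by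
  rcases subsingleton_or_charP hp with hs | hc
  · exact Subsingleton.elim _ _
  · exact add_pow_char a b p

theorem eq_of_units (hp : (p : A) = 0) (a : A) (ha : a ^ p = a) (k : ZMod p)
    (h : ∀ k' : ZMod p, k' ≠ k → IsUnit (a - ((k'.val : ℕ) : A))) :
    a = ((k.val : ℕ) : A) := by
  have h1 := prod_sub hp a
  rw [ha, sub_self, ← Finset.mul_prod_erase Finset.univ _ (Finset.mem_univ k)] at h1
  have h2 : IsUnit (∏ k' ∈ Finset.univ.erase k, (a - ((k'.val : ℕ) : A))) :=
    IsUnit.prod_iff.mpr fun k' hk' => h k' (Finset.ne_of_mem_erase hk')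
  exact sub_eq_zero.mp ((h2.mul_left_eq_zero).mp h1)

theorem existsUnique_nonunit [IsLocalRing A] (hp : (p : A) = 0) (a : A) (ha : a ^ p = a) :
    ∃! k : ZMod p, ¬ IsUnit (a - ((k.val : ℕ) : A)) := by
  have hex : ∃ k : ZMod p, ¬ IsUnit (a - ((k.val : ℕ) : A)) := by
    by_contra hcon
    push Not at hcon
    have h1 : IsUnit (∏ k : ZMod p, (a - ((k.val : ℕ) : A))) := IsUnit.prod_univ_iff.mpr hcon
    rw [prod_sub hp, ha, sub_self] at h1
    exact not_isUnit_zero h1
  obtain ⟨k, hk⟩ := hex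
  refine ⟨k, hk, fun k' hk' => ?_⟩
  by_contra hne
  have h1 : IsUnit (((k.val : ℕ) : A) - ((k'.val : ℕ) : A)) := isUnit_sub hp (Ne.symm hne)
  have h2 : ((k.val : ℕ) : A) - ((k'.val : ℕ) : A) =
      (a - ((k'.val : ℕ) : A)) - (a - ((k.val : ℕ) : A)) := by ring
  rw [h2] at h1
  have h3 : (a - ((k'.val : ℕ) : A)) - (a - ((k.val : ℕ) : A)) ∈ IsLocalRing.maximalIdeal A :=
    Ideal.sub_mem _ ((IsLocalRing.mem_maximalIdeal _).mpr hk')
      ((IsLocalRing.mem_maximalIdeal _).mpr hk)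
  exact (IsLocalRing.mem_maximalIdeal _).mp h3 h1

end Groth.Agent.H8.ASch
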