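import Mathlib
import Groth.Prelude.Def_TwC
import Groth.Prelude.Def_Red2
import Groth.Agent.H4.GaGmBridge
import Groth.Agent.H4.GaGmCover
import Groth.Agent.Lib.Helper8.ASch.Alg

/-! Points of the constant scheme `(ℤ/p)_S` and the kernel of `x ↦ x - x^p` on `𝔾_a` in
characteristic `p`. -/

universe u
open CategoryTheory MonoidalCategory CartesianMonoidalCategory MonObj GrpObj AlgebraicGeometry Limits
open Groth.Agent.H4.GaGm

namespace Groth.Agent.H8.ASch

section opens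

variable (p : ℕ) [Fact p.Prime] {T : Scheme.{u}} (f : Γ(T, ⊤))

/-- the non-vanishing locus of `f - k` -/
noncomputable def D (k : ZMod p) : T.Opens := T.basicOpen (f - ((k.val : ℕ) : Γ(T, ⊤)))

/-- the locus where `f = k` -/
noncomputable def U (k : ZMod p) : T.Opens :=
  ⟨{t | ∀ k' : ZMod p, k' ≠ k → t ∈ D p f k'}, by
    have : {t : T | ∀ k' : ZMod p, k' ≠ k → t ∈ D p f k'} =
        ⋂ k' : ZMod p, ⋂ (_ : k' ≠ k), (D p f k' : Set T) := by
      ext t; simp
    rw [this]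
    exact isOpen_iInter_of_finite fun k' => isOpen_iInter_of_finite fun _ => (D p f k').2⟩

variable {p} {f}

theorem existsUnique_not_mem_D (hp : (p : Γ(T, ⊤)) = 0) (hf : f ^ p = f) (t : T) :
    ∃! k : ZMod p, t ∉ D p f k := by
  set gm : Γ(T, ⊤) →+* T.presheaf.stalk t := (T.presheaf.germ ⊤ t trivial).hom with hgm
  have hp' : (p : T.presheaf.stalk t) = 0 := by rw [← map_natCast gm, hp, map_zero]
  have ha : (gm f) ^ p = gm f := by rw [← map_pow, hf]
  obtain ⟨k, hk, huniq⟩ := existsUnique_nonunit hp' (gm f) ha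
  have key : ∀ k' : ZMod p, t ∈ D p f k' ↔
      IsUnit (gm f - ((k'.val : ℕ) : T.presheaf.stalk t)) := by
    intro k'
    unfold D
    rw [Scheme.mem_basicOpen_top]
    have : (T.presheaf.germ ⊤ t trivial) (f - ((k'.val : ℕ) : Γ(T, ⊤))) =
        gm f - ((k'.val : ℕ) : T.presheaf.stalk t) := by
      change gm (f - _) = _
      rw [map_sub, map_natCast]
    rw [this]
  exact ⟨k, fun h => hk ((key k).mp h), fun k' hk' => huniq k' (fun h => hk' ((key k').mpr h))⟩

theorem exists_mem_U (hp : (p : Γ(T, ⊤)) = 0) (hf : f ^ p = f) (t : T) : ∃ k, t ∈ U p f k := by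
  obtain ⟨k, _, huniq⟩ := existsUnique_not_mem_D hp hf t
  refine ⟨k, fun k' hne => ?_⟩
  by_contra h
  exact hne (huniq k' h)

theorem eq_of_mem_U (hp : (p : Γ(T, ⊤)) = 0) (hf : f ^ p = f) {t : T} {k k' : ZMod p}
    (h : t ∈ U p f k) (h' : t ∈ U p f k') : k = k' := by
  obtain ⟨k₀, hk₀, _⟩ := existsUnique_not_mem_D hp hf t
  have h1 : k₀ = k := by
    by_contra h1
    exact hk₀ (h k₀ h1)
  have h2 : k₀ = k' := by
    by_contra h2
    exact hk₀ (h' k₀ h2)
  exact h1.symm.trans h2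

theorem isUnit_of_basicOpen_eq_top {X : Scheme.{u}} (g : Γ(X, ⊤)) (h : X.basicOpen g = ⊤) :
    IsUnit g := by
  refine RingedSpace.isUnit_of_isUnit_germ X.toRingedSpace ⊤ g (fun x hx => ?_)
  have : x ∈ X.basicOpen g := by rw [h]; trivial
  exact (X.mem_basicOpen g x hx).mp this

theorem isUnit_res (V : T.Opens) (g : Γ(T, ⊤)) (h : V ≤ T.basicOpen g) :
    IsUnit (V.ι.appTop.hom g) := by
  apply isUnit_of_basicOpen_eq_top
  have h1 := Scheme.preimage_basicOpen_top V.ι g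
  change V.ι ⁻¹ᵁ T.basicOpen g = V.toScheme.basicOpen (V.ι.appTop.hom g) at h1
  rw [← h1, eq_top_iff]
  intro v _
  exact h v.2

theorem res_U (hp : (p : Γ(T, ⊤)) = 0) (hf : f ^ p = f) (k : ZMod p) :
    (U p f k).ι.appTop.hom f = ((k.val : ℕ) : Γ((U p f k).toScheme, ⊤)) := by
  set φ : Γ(T, ⊤) →+* Γ((U p f k).toScheme, ⊤) := (U p f k).ι.appTop.hom with hφ
  have hp' : (p : Γ((U p f k).toScheme, ⊤)) = 0 := by rw [← map_natCast φ, hp, map_zero]
  have ha : (φ f) ^ p = φ f := by rw [← map_pow, hf]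
  refine eq_of_units hp' (φ f) ha k (fun k' hne => ?_)
  have h1 := isUnit_res (U p f k) (f - ((k'.val : ℕ) : Γ(T, ⊤))) (fun t ht => ht k' hne)
  change IsUnit (φ _) at h1
  rwa [map_sub, map_natCast] at h1

end opens

section points

variable {p : ℕ} [Fact p.Prime] {S : Scheme.{u}}

theorem natCast_eq_zero_over (hp : (p : Γ(S, ⊤)) = 0) (T : Over S) :
    (p : Γ(T.left, ⊤)) = 0 := by
  rw [← map_natCast T.hom.appTop.hom, hp, map_zero]

theorem fac_of_range {W : Scheme.{u}}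
    (w : W ⟶ (TwC.const S (Multiplicative (ZMod p))).left) (m : Multiplicative (ZMod p))
    (h : ∀ v : W, w v ∈ (Sigma.ι (fun _ : Multiplicative (ZMod p) => S) m).opensRange) :
    w = (w ≫ (TwC.const S (Multiplicative (ZMod p))).hom) ≫
      Sigma.ι (fun _ : Multiplicative (ZMod p) => S) m := by
  have hr : Set.range w ⊆ Set.range (Sigma.ι (fun _ : Multiplicative (ZMod p) => S) m) := by
    rintro _ ⟨v, rfl⟩
    exact h v
  obtain ⟨g, hg⟩ : ∃ g : W ⟶ S, g ≫ Sigma.ι (fun _ : Multiplicative (ZMod p) => S) m = w :=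
    ⟨IsOpenImmersion.lift _ w hr, IsOpenImmersion.lift_fac _ w hr⟩
  have h2 : w ≫ (TwC.const S (Multiplicative (ZMod p))).hom = g := by
    rw [← hg, Category.assoc]
    change g ≫ Sigma.ι (fun _ : Multiplicative (ZMod p) => S) m ≫
      Sigma.desc (fun _ : Multiplicative (ZMod p) => 𝟙 S) = g
    rw [Sigma.ι_desc, Category.comp_id]
  rw [h2, hg]

variable (hp : (p : Γ(S, ⊤)) = 0) (j : TwC.const S (Multiplicative (ZMod p)) ⟶ Red.Ga S)
  (hj : ∀ m : Multiplicative (ZMod p),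
    Red.gaFn (TwC.pt S (Multiplicative (ZMod p)) m ≫ j) =
      ((((Multiplicative.toAdd m).val : ℕ)) : Γ((𝟙_ (Over S)).left, ⊤)))

include hj in
theorem gaFn_res_of_range {T : Over S} (z : T ⟶ TwC.const S (Multiplicative (ZMod p)))
    (V : T.left.Opens) (m : Multiplicative (ZMod p))
    (hV : ∀ v : V, z.left v.1 ∈ (Sigma.ι (fun _ : Multiplicative (ZMod p) => S) m).opensRange) :
    V.ι.appTop.hom (Red.gaFn (z ≫ j)) =
      ((((Multiplicative.toAdd m).val : ℕ)) : Γ(V.toScheme, ⊤)) := by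
  have hvz : (Over.homMk V.ι rfl : Over.mk (V.ι ≫ T.hom) ⟶ T) ≫ z =
      toUnit (Over.mk (V.ι ≫ T.hom)) ≫ TwC.pt S (Multiplicative (ZMod p)) m := by
    apply Over.OverMorphism.ext
    have h1 := fac_of_range (V.ι ≫ z.left) m (fun v => hV v)
    have h2 : z.left ≫ (TwC.const S (Multiplicative (ZMod p))).hom = T.hom := Over.w z
    have h3 : (V.ι ≫ z.left) ≫ (TwC.const S (Multiplicative (ZMod p))).hom = V.ι ≫ T.hom := by
      rw [Category.assoc, h2]
    rw [h3] at h1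
    exact h1
  have e1 := gaFn_comp (Over.homMk V.ι rfl : Over.mk (V.ι ≫ T.hom) ⟶ T) (z ≫ j)
  have e2 : (Over.homMk V.ι rfl : Over.mk (V.ι ≫ T.hom) ⟶ T) ≫ (z ≫ j) =
      toUnit (Over.mk (V.ι ≫ T.hom)) ≫ (TwC.pt S (Multiplicative (ZMod p)) m ≫ j) := by
    rw [← Category.assoc, hvz, Category.assoc]
  rw [e2, gaFn_comp, hj, map_natCast] at e1
  exact e1.symm

include hp hj in
theorem mem_U_of_mem_range {T : Over S} (z : T ⟶ TwC.const S (Multiplicative (ZMod p)))
    (m : Multiplicative (ZMod p)) (t : T.left)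
    (ht : z.left t ∈ (Sigma.ι (fun _ : Multiplicative (ZMod p) => S) m).opensRange) :
    t ∈ U p (Red.gaFn (z ≫ j)) (Multiplicative.toAdd m) := by
  obtain ⟨V, hV, htV⟩ : ∃ V : T.left.Opens,
      (∀ v : V, z.left v.1 ∈ (Sigma.ι (fun _ : Multiplicative (ZMod p) => S) m).opensRange) ∧
        t ∈ V :=
    ⟨z.left ⁻¹ᵁ (Sigma.ι (fun _ : Multiplicative (ZMod p) => S) m).opensRange, fun v => v.2, ht⟩
  have hres := gaFn_res_of_range j hj z V m hV
  have hpV : (p : Γ(V.toScheme, ⊤)) = 0 := natCast_eq_zero_over hp (Over.mk (V.ι ≫ T.hom))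
  intro k' hne
  have hu : IsUnit (V.ι.appTop.hom (Red.gaFn (z ≫ j) - ((k'.val : ℕ) : Γ(T.left, ⊤)))) := by
    rw [map_sub, hres, map_natCast]
    exact isUnit_sub hpV (Ne.symm hne)
  have h2 : V.ι ⁻¹ᵁ (D p (Red.gaFn (z ≫ j)) k') = ⊤ := by
    have h1 := Scheme.preimage_basicOpen_top V.ι
      (Red.gaFn (z ≫ j) - ((k'.val : ℕ) : Γ(T.left, ⊤)))
    change V.ι ⁻¹ᵁ (D p (Red.gaFn (z ≫ j)) k') =
      V.toScheme.basicOpen (V.ι.appTop.hom _) at h1
    rw [h1]
    exact Scheme.basicOpen_of_isUnit _ hu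
  have h3 : (⟨t, htV⟩ : V) ∈ V.ι ⁻¹ᵁ (D p (Red.gaFn (z ≫ j)) k') := by rw [h2]; trivial
  exact h3

omit [Fact p.Prime] in
theorem exists_mem_range {T : Over S} (z : T ⟶ TwC.const S (Multiplicative (ZMod p)))
    (t : T.left) :
    ∃ m : Multiplicative (ZMod p),
      z.left t ∈ (Sigma.ι (fun _ : Multiplicative (ZMod p) => S) m).opensRange := by
  obtain ⟨m, s, hs⟩ :=
    (sigmaOpenCover (fun _ : Multiplicative (ZMod p) => S)).exists_eq (z.left t)
  exact ⟨m, s, hs⟩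

include hp hj in
theorem left_eq_on_U {T : Over S} (z : T ⟶ TwC.const S (Multiplicative (ZMod p)))
    (hf : Red.gaFn (z ≫ j) ^ p = Red.gaFn (z ≫ j)) (k : ZMod p) :
    (U p (Red.gaFn (z ≫ j)) k).ι ≫ z.left =
      ((U p (Red.gaFn (z ≫ j)) k).ι ≫ T.hom) ≫
        Sigma.ι (fun _ : Multiplicative (ZMod p) => S) (Multiplicative.ofAdd k) := by
  have hpT := natCast_eq_zero_over hp T
  have h1 := fac_of_range ((U p (Red.gaFn (z ≫ j)) k).ι ≫ z.left) (Multiplicative.ofAdd k)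
    (fun v => by
      obtain ⟨m, hm⟩ := exists_mem_range z v.1
      have h2 := mem_U_of_mem_range hp j hj z m v.1 hm
      have h3 : k = Multiplicative.toAdd m := eq_of_mem_U hpT hf v.2 h2
      subst h3
      exact hm)
  have h2 : z.left ≫ (TwC.const S (Multiplicative (ZMod p))).hom = T.hom := Over.w z
  have h3 : ((U p (Red.gaFn (z ≫ j)) k).ι ≫ z.left) ≫
      (TwC.const S (Multiplicative (ZMod p))).hom = (U p (Red.gaFn (z ≫ j)) k).ι ≫ T.hom := by
    rw [Category.assoc, h2]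
  rw [h3] at h1
  exact h1

include hp hj in
theorem left_unique {T : Over S} (z z' : T ⟶ TwC.const S (Multiplicative (ZMod p)))
    (h : z ≫ j = z' ≫ j) (hf : Red.gaFn (z ≫ j) ^ p = Red.gaFn (z ≫ j)) : z = z' := by
  have hpT := natCast_eq_zero_over hp T
  apply Over.OverMorphism.ext
  apply Scheme.hom_ext_of_forall
  intro t
  obtain ⟨k, hk⟩ := exists_mem_U hpT hf t
  refine ⟨U p (Red.gaFn (z ≫ j)) k, hk, ?_⟩
  have h1 := left_eq_on_U hp j hj z hf k
  have h2 := left_eq_on_U hp j hj z' (h ▸ hf) k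
  rw [← h] at h2
  rw [h1, h2]

include hp hj in
theorem exists_lift {T : Over S} (x : T ⟶ Red.Ga S) (hf : Red.gaFn x ^ p = Red.gaFn x) :
    ∃ z : T ⟶ TwC.const S (Multiplicative (ZMod p)), z ≫ j = x := by
  have hpT := natCast_eq_zero_over hp T
  have hcov : ⨆ k : ZMod p, ((U p (Red.gaFn x) k).ι).opensRange = ⊤ := by
    rw [eq_top_iff]
    intro t _
    obtain ⟨k, hk⟩ := exists_mem_U hpT hf t
    rw [TopologicalSpace.Opens.mem_iSup]
    exact ⟨k, by rw [Scheme.Opens.opensRange_ι]; exact hk⟩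
  have hdisj : Pairwise (Function.onFun Disjoint
      (fun k : ZMod p => ((U p (Red.gaFn x) k).ι).opensRange)) := by
    intro k k' hne
    change Disjoint ((U p (Red.gaFn x) k).ι).opensRange ((U p (Red.gaFn x) k').ι).opensRange
    rw [Scheme.Opens.opensRange_ι, Scheme.Opens.opensRange_ι, disjoint_iff]
    ext t
    simp only [TopologicalSpace.Opens.coe_inf, Set.mem_inter_iff, SetLike.mem_coe,
      TopologicalSpace.Opens.coe_bot, Set.mem_empty_iff_false, iff_false, not_and]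
    intro h1 h2
    exact hne (eq_of_mem_U hpT hf h1 h2)
  obtain ⟨hc⟩ := nonempty_isColimit_cofanMk_of (fun k : ZMod p => (U p (Red.gaFn x) k).ι)
    hcov hdisj
  obtain ⟨zl, hzl⟩ : ∃ zl : T.left ⟶ (TwC.const S (Multiplicative (ZMod p))).left,
      ∀ k : ZMod p, (U p (Red.gaFn x) k).ι ≫ zl =
        ((U p (Red.gaFn x) k).ι ≫ T.hom) ≫
          Sigma.ι (fun _ : Multiplicative (ZMod p) => S) (Multiplicative.ofAdd k) :=
    ⟨Cofan.IsColimit.desc hc (fun k => ((U p (Red.gaFn x) k).ι ≫ T.hom) ≫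
        Sigma.ι (fun _ : Multiplicative (ZMod p) => S) (Multiplicative.ofAdd k)),
      fun k => Cofan.IsColimit.fac hc _ k⟩
  have hw : zl ≫ (TwC.const S (Multiplicative (ZMod p))).hom = T.hom := by
    apply Cofan.IsColimit.hom_ext hc
    intro k
    change (U p (Red.gaFn x) k).ι ≫ zl ≫ _ = (U p (Red.gaFn x) k).ι ≫ T.hom
    rw [← Category.assoc, hzl, Category.assoc]
    change _ ≫ Sigma.ι (fun _ : Multiplicative (ZMod p) => S) (Multiplicative.ofAdd k) ≫
      Sigma.desc (fun _ : Multiplicative (ZMod p) => 𝟙 S) = _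
    rw [Sigma.ι_desc, Category.comp_id]
  refine ⟨Over.homMk zl hw, ?_⟩
  apply Over.OverMorphism.ext
  apply Cofan.IsColimit.hom_ext hc
  intro k
  have huz : (Over.homMk (U p (Red.gaFn x) k).ι rfl :
        Over.mk ((U p (Red.gaFn x) k).ι ≫ T.hom) ⟶ T) ≫ Over.homMk zl hw =
      toUnit (Over.mk ((U p (Red.gaFn x) k).ι ≫ T.hom)) ≫
        TwC.pt S (Multiplicative (ZMod p)) (Multiplicative.ofAdd k) := by
    apply Over.OverMorphism.ext
    exact hzl k
  have key : (Over.homMk (U p (Red.gaFn x) k).ι rfl :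
        Over.mk ((U p (Red.gaFn x) k).ι ≫ T.hom) ⟶ T) ≫ (Over.homMk zl hw ≫ j) =
      (Over.homMk (U p (Red.gaFn x) k).ι rfl :
        Over.mk ((U p (Red.gaFn x) k).ι ≫ T.hom) ⟶ T) ≫ x := by
    apply gaFn_injective
    rw [← Category.assoc, huz, Category.assoc, gaFn_comp, hj, map_natCast, gaFn_comp]
    exact (res_U hpT hf k).symm
  exact congrArg (fun q => q.left) key

include hp hj in
theorem comp_eq_one (P : Red.Ga S ⟶ Red.Ga S)
    (hP : ∀ (T : Over S) (x : T ⟶ Red.Ga S),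
      Red.gaFn (x ≫ P) = Red.gaFn x - Red.gaFn x ^ p) :
    j ≫ P = toUnit _ ≫ η[Red.Ga S] := by
  rw [← Hom.one_def]
  apply Over.OverMorphism.ext
  refine Sigma.hom_ext _ _ (fun m => ?_)
  have key : TwC.pt S (Multiplicative (ZMod p)) m ≫ (j ≫ P) =
      TwC.pt S (Multiplicative (ZMod p)) m ≫ 1 := by
    apply gaFn_injective
    rw [← Category.assoc, hP, hj, MonObj.comp_one, gaFn_one]
    rw [natCast_pow_p (A := Γ((𝟙_ (Over S)).left, ⊤)) hp, sub_self]
  exact congrArg (fun q => q.left) key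

theorem pow_eq_self_of_comp (P : Red.Ga S ⟶ Red.Ga S)
    (hP : ∀ (T : Over S) (x : T ⟶ Red.Ga S),
      Red.gaFn (x ≫ P) = Red.gaFn x - Red.gaFn x ^ p)
    {T : Over S} (x : T ⟶ Red.Ga S) (hx : x ≫ P = toUnit T ≫ η[Red.Ga S]) :
    Red.gaFn x ^ p = Red.gaFn x := by
  have h1 := hP T x
  rw [hx, ← Hom.one_def, gaFn_one] at h1
  exact (sub_eq_zero.mp h1.symm).symm

include hp hj in
/-- `(ℤ/p)_S` is the kernel of `x ↦ x - x^p`. -/
theorem isKernel_const (P : Red.Ga S ⟶ Red.Ga S)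
    (hP : ∀ (T : Over S) (x : T ⟶ Red.Ga S),
      Red.gaFn (x ≫ P) = Red.gaFn x - Red.gaFn x ^ p) :
    IsPullback j (toUnit _) P η[Red.Ga S] := by
  have hw := comp_eq_one hp j hj P hP
  have hcond : ∀ s : PullbackCone P η[Red.Ga S], s.fst ≫ P = toUnit s.pt ≫ η[Red.Ga S] := by
    intro s
    rw [s.condition, toUnit_unique s.snd (toUnit s.pt)]
  refine IsPullback.of_isLimit' ⟨hw⟩ (PullbackCone.IsLimit.mk _ ?_ ?_ ?_ ?_)
  · intro s
    exact (exists_lift hp j hj s.fst (pow_eq_self_of_comp P hP s.fst (hcond s))).choose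
  · intro s
    exact (exists_lift hp j hj s.fst (pow_eq_self_of_comp P hP s.fst (hcond s))).choose_spec
  · intro s
    exact toUnit_unique _ _
  · intro s m h1 _
    apply left_unique hp j hj
    · rw [h1]
      exact (exists_lift hp j hj s.fst
        (pow_eq_self_of_comp P hP s.fst (hcond s))).choose_spec.symm
    · rw [h1]
      exact pow_eq_self_of_comp P hP s.fst (hcond s)

end points

end Groth.Agent.H8.ASch
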