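import Mathlib
import Groth.Prelude.Def_TwC
import Groth.Prelude.Def_Red2
import Groth.Prelude.Def_NonAbH2
import Groth.Agent.H4.GaGmBridge
import Groth.Agent.H4.GaGmCover
import Groth.Agent.Lib.Helper3.Shear
import Groth.Agent.Lib.Helper8.ASch.Pts

/-! The Artin–Schreier sequence is exact for the fpqc (indeed fppf) topology. -/

universe u
open CategoryTheory MonoidalCategory CartesianMonoidalCategory MonObj GrpObj AlgebraicGeometry Limits
open Groth.Agent.H4.GaGm Polynomial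

namespace Groth.Agent.H8.ASch

section cover

/-- the Artin–Schreier polynomial `X^p - X + t` -/
noncomputable def g (p : ℕ) : (A₀.{u})[X] := X ^ p - (X - C tt.{u})

theorem monic_g (p : ℕ) (hp : 1 < p) : (g.{u} p).Monic :=
  monic_X_pow_sub (by rw [degree_X_sub_C]; exact_mod_cast hp)

theorem natDegree_g (p : ℕ) (hp : 1 < p) : (g.{u} p).natDegree = p := by
  unfold g
  rw [natDegree_sub_eq_left_of_natDegree_lt, natDegree_X_pow]
  rw [natDegree_X_sub_C, natDegree_X_pow]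
  exact hp

theorem root_rel (p : ℕ) :
    AdjoinRoot.root (g.{u} p) - (AdjoinRoot.root (g.{u} p)) ^ p = AdjoinRoot.of (g.{u} p) tt := by
  have h := AdjoinRoot.eval₂_root (g.{u} p)
  unfold g at h ⊢
  simp only [eval₂_sub, eval₂_pow, eval₂_X, eval₂_C] at h
  linear_combination -h

theorem faithfullyFlat_g (p : ℕ) (hp : 1 < p) : (AdjoinRoot.of (g.{u} p)).FaithfullyFlat := by
  have := (monic_g.{u} p hp).free_adjoinRoot
  have : Nontrivial (AdjoinRoot (g.{u} p)) := by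
    refine Ideal.Quotient.nontrivial_iff.mpr ?_
    rw [Ne, Ideal.span_singleton_eq_top]
    intro h
    have := (monic_g.{u} p hp).eq_one_of_isUnit h
    have h2 := natDegree_g.{u} p hp
    rw [this, natDegree_one] at h2
    omega
  have : Module.FaithfullyFlat A₀.{u} (AdjoinRoot (g.{u} p)) := inferInstance
  rw [← AdjoinRoot.algebraMap_eq]
  exact (RingHom.faithfullyFlat_algebraMap_iff).mpr this

theorem finitePresentation_g (p : ℕ) : (AdjoinRoot.of (g.{u} p)).FinitePresentation := by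
  rw [← AdjoinRoot.algebraMap_eq, RingHom.finitePresentation_algebraMap]
  infer_instance

end cover

section main

variable {p : ℕ} [Fact p.Prime] {S : Scheme.{u}}

theorem locallyTrivial (P : Red.Ga S ⟶ Red.Ga S)
    (hP : ∀ (T : Over S) (x : T ⟶ Red.Ga S),
      Red.gaFn (x ≫ P) = Red.gaFn x - Red.gaFn x ^ p) :
    NonAbH1.IsLocallyTrivialFor Scheme.fppfPrecoverage
      (Over.mk P.left : Over (Red.Ga S).left) := by
  have hp1 : 1 < p := (Fact.out : p.Prime).one_lt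
  have hff := (flat_and_surjective_SpecMap_iff
    (CommRingCat.ofHom (AdjoinRoot.of (g.{u} p)))).mpr (faithfullyFlat_g p hp1)
  have hflat : Flat (Spec.map (CommRingCat.ofHom (AdjoinRoot.of (g.{u} p)))) := hff.1
  have hsurj : Surjective (Spec.map (CommRingCat.ofHom (AdjoinRoot.of (g.{u} p)))) := hff.2
  have hlfp : LocallyOfFinitePresentation
      (Spec.map (CommRingCat.ofHom (AdjoinRoot.of (g.{u} p)))) := by
    rw [HasRingHomProperty.Spec_iff (P := @LocallyOfFinitePresentation)]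
    exact finitePresentation_g p
  obtain ⟨q, hq⟩ : ∃ q : (Red.Ga S).left ⟶ Spec (CommRingCat.of A₀.{u}),
      q = pullback.fst _ _ := ⟨_, rfl⟩
  refine ⟨Presieve.singleton
      (pullback.fst q (Spec.map (CommRingCat.ofHom (AdjoinRoot.of (g.{u} p))))),
    Scheme.Hom.singleton_mem_fppfPrecoverage _, ?_⟩
  rintro W f ⟨⟩
  obtain ⟨c, hc⟩ : ∃ c : pullback q (Spec.map (CommRingCat.ofHom (AdjoinRoot.of (g.{u} p)))) ⟶
      (Red.Ga S).left, c = pullback.fst q _ := ⟨_, rfl⟩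
  rw [← hc]
  -- the root as a global function on the cover
  obtain ⟨ρ, hρ⟩ : ∃ ρ : Γ(pullback q (Spec.map (CommRingCat.ofHom (AdjoinRoot.of (g.{u} p)))), ⊤),
      ρ = (pullback.snd q (Spec.map (CommRingCat.ofHom (AdjoinRoot.of (g.{u} p))))).appTop.hom
        ((Scheme.ΓSpecIso (CommRingCat.of (AdjoinRoot (g.{u} p)))).inv.hom
          (AdjoinRoot.root (g.{u} p))) := ⟨_, rfl⟩
  obtain ⟨s, hs⟩ := gaFn_surjective (S := S) (X := Over.mk (c ≫ (Red.Ga S).hom)) ρ
  have hcS : Red.gaFn (Over.homMk c rfl : Over.mk (c ≫ (Red.Ga S).hom) ⟶ Red.Ga S) =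
      ρ - ρ ^ p := by
    have h0 : Red.gaFn (Over.homMk c rfl : Over.mk (c ≫ (Red.Ga S).hom) ⟶ Red.Ga S) =
        (c ≫ q).appTop.hom Red.gaCoord := by
      subst hq
      rfl
    have h1 : c ≫ q = pullback.snd q (Spec.map (CommRingCat.ofHom (AdjoinRoot.of (g.{u} p)))) ≫
          Spec.map (CommRingCat.ofHom (AdjoinRoot.of (g.{u} p))) := by
      rw [hc]
      exact pullback.condition
    rw [h0, h1, Scheme.Hom.comp_appTop]
    have h2 := Scheme.ΓSpecIso_inv_naturality (CommRingCat.ofHom (AdjoinRoot.of (g.{u} p)))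
    have h3 : (Spec.map (CommRingCat.ofHom (AdjoinRoot.of (g.{u} p)))).appTop.hom Red.gaCoord =
        (Scheme.ΓSpecIso (CommRingCat.of (AdjoinRoot (g.{u} p)))).inv.hom
          (AdjoinRoot.of (g.{u} p) tt) := by
      have := congrArg (fun φ => φ.hom tt.{u}) h2
      exact this.symm
    change (pullback.snd q _).appTop.hom ((Spec.map _).appTop.hom Red.gaCoord) = _
    rw [h3, ← root_rel, hρ, map_sub, map_sub, map_pow, map_pow]
  refine ⟨s.left, ?_⟩
  have key : s ≫ P = (Over.homMk c rfl : Over.mk (c ≫ (Red.Ga S).hom) ⟶ Red.Ga S) := by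
    apply gaFn_injective
    rw [hP, hs, hcS]
  exact congrArg (fun q => q.left) key

theorem isMonHom_P (hp : (p : Γ(S, ⊤)) = 0) (P : Red.Ga S ⟶ Red.Ga S)
    (hP : ∀ (T : Over S) (x : T ⟶ Red.Ga S),
      Red.gaFn (x ≫ P) = Red.gaFn x - Red.gaFn x ^ p) : IsMonHom P := by
  have hp0 : p ≠ 0 := (Fact.out : p.Prime).ne_zero
  have hμ : (μ[Red.Ga S] : Red.Ga S ⊗ Red.Ga S ⟶ Red.Ga S) = fst _ _ * snd _ _ := by
    rw [Hom.mul_def, lift_fst_snd, Category.id_comp]
  refine ⟨?_, ?_⟩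
  · apply gaFn_injective
    have h1 : (η[Red.Ga S] : 𝟙_ (Over S) ⟶ Red.Ga S) = 1 := by
      rw [Hom.one_def, toUnit_unique (toUnit (𝟙_ (Over S))) (𝟙 _), Category.id_comp]
    rw [hP, h1, gaFn_one, zero_pow hp0, sub_zero]
  · apply gaFn_injective
    have h2 : (P ⊗ₘ P) ≫ μ[Red.Ga S] = (fst _ _ ≫ P) * (snd _ _ ≫ P) := by
      rw [hμ, MonObj.comp_mul, tensorHom_fst, tensorHom_snd]
    rw [hP, h2, gaFn_mul, hP, hP, hμ, gaFn_mul,
      add_pow_p (natCast_eq_zero_over hp (Red.Ga S ⊗ Red.Ga S))]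
    ring

theorem gaFn_pt (hp : (p : Γ(S, ⊤)) = 0) {G' : Over S} [GrpObj G']
    (e : G' ≅ TwC.const S (Multiplicative (ZMod p)))
    (he : TwC.IsConstGrp (Multiplicative (ZMod p)) G' e)
    (i : G' ⟶ Red.Ga S) [IsMonHom i]
    (hi : Red.gaFn (TwC.pt S (Multiplicative (ZMod p)) (Multiplicative.ofAdd 1) ≫ e.inv ≫ i) = 1)
    (m : Multiplicative (ZMod p)) :
    Red.gaFn (TwC.pt S (Multiplicative (ZMod p)) m ≫ (e.inv ≫ i)) =
      ((((Multiplicative.toAdd m).val : ℕ)) : Γ((𝟙_ (Over S)).left, ⊤)) := by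
  have h1 : TwC.pt S (Multiplicative (ZMod p)) 1 ≫ e.inv = 1 := by
    have := he 1 1
    rw [_root_.mul_one] at this
    exact mul_left_cancel (this.trans (_root_.mul_one _).symm)
  have h2 : ∀ n : ℕ, Red.gaFn ((TwC.pt S (Multiplicative (ZMod p))
      (Multiplicative.ofAdd ((n : ℕ) : ZMod p)) ≫ e.inv) ≫ i) =
        ((n : ℕ) : Γ((𝟙_ (Over S)).left, ⊤)) := by
    intro n
    induction n with
    | zero =>
      have h0 : Multiplicative.ofAdd (((0 : ℕ)) : ZMod p) = (1 : Multiplicative (ZMod p)) := by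
        simp
      rw [h0, h1, MonObj.one_comp i, gaFn_one, Nat.cast_zero]
    | succ n ih =>
      have h0 : Multiplicative.ofAdd (((n + 1 : ℕ)) : ZMod p) =
          Multiplicative.ofAdd ((n : ℕ) : ZMod p) * Multiplicative.ofAdd (1 : ZMod p) := by
        rw [← ofAdd_add, Nat.cast_succ]
      rw [h0, ← he, MonObj.mul_comp _ _ i, gaFn_mul, ih, Nat.cast_succ, Category.assoc, hi]
  have h3 := h2 (ZMod.val (Multiplicative.toAdd m))
  rw [ZMod.natCast_zmod_val, Category.assoc] at h3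
  exact h3

/-- the Artin–Schreier sequence is exact for the fppf topology -/
theorem isExactSeq_fppf (hp : (p : Γ(S, ⊤)) = 0) (F : Red.Ga S ⟶ Red.Ga S)
    (hF : ∀ (T : Over S) (x : T ⟶ Red.Ga S), Red.gaFn (x ≫ F) = Red.gaFn x ^ p)
    {G' : Over S} [GrpObj G'] (e : G' ≅ TwC.const S (Multiplicative (ZMod p)))
    (he : TwC.IsConstGrp (Multiplicative (ZMod p)) G' e)
    (i : G' ⟶ Red.Ga S) [IsMonHom i]
    (hi : Red.gaFn (TwC.pt S (Multiplicative (ZMod p)) (Multiplicative.ofAdd 1) ≫ e.inv ≫ i) = 1) :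
    NonAbH1.IsExactSeq Scheme.fppfPrecoverage i (𝟙 (Red.Ga S) * F⁻¹) := by
  have hP : ∀ (T : Over S) (x : T ⟶ Red.Ga S),
      Red.gaFn (x ≫ (𝟙 (Red.Ga S) * F⁻¹)) = Red.gaFn x - Red.gaFn x ^ p := by
    intro T x
    rw [MonObj.comp_mul, GrpObj.comp_inv, Category.comp_id, gaFn_mul, gaFn_inv, hF,
      sub_eq_add_neg]
  have hv : IsMonHom (𝟙 (Red.Ga S) * F⁻¹) := isMonHom_P hp _ hP
  have hK0 := isKernel_const hp (e.inv ≫ i) (gaFn_pt hp e he i hi) _ hP
  have hK : IsPullback i (toUnit G') (𝟙 (Red.Ga S) * F⁻¹) η[Red.Ga S] := by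
    refine IsPullback.of_iso hK0 e.symm (Iso.refl _) (Iso.refl _) (Iso.refl _) ?_ ?_ ?_ ?_
    · simp
    · exact toUnit_unique _ _
    · simp
    · simp
  refine ⟨inferInstance, hv, ?_, ?_, locallyTrivial _ hP⟩
  · rw [hK.w, Hom.one_def]
  · exact Groth.Agent.H3.Shear.isPullback_shear _ _ hK

end main

end Groth.Agent.H8.ASch
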